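import Mathlib.AlgebraicGeometry.Morphisms.FiniteType
import Mathlib.Algebra.Category.Ring.FilteredColimits
import Mathlib.CategoryTheory.Limits.Types.Filtered
import Mathlib.RingTheory.FiniteType
import Mathlib.CategoryTheory.Limits.Preserves.Opposites
import Mathlib.AlgebraicGeometry.GammaSpecAdjunction
import Mathlib.AlgebraicGeometry.Morphisms.Affine

/-!
The spectrum of an algebra is the limit of the spectra of its finitely generated subalgebras.
-/

set_option autoImplicit false

open CategoryTheory Limits AlgebraicGeometry Opposite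

universe u

namespace Groth.Agent.ConsPair.SubalgLimit

variable (R K : Type u) [CommRing R] [CommRing K] [Algebra R K]

/-- finitely generated subalgebras -/
abbrev FGSub : Type u := {A : Subalgebra R K // A.FG}

instance : Nonempty (FGSub R K) := ⟨⟨⊥, Subalgebra.fg_bot⟩⟩

instance : IsDirectedOrder (FGSub R K) :=
  ⟨fun a b => ⟨⟨a.1 ⊔ b.1, a.2.sup b.2⟩, show a.1 ≤ a.1 ⊔ b.1 from le_sup_left, show b.1 ≤ a.1 ⊔ b.1 from le_sup_right⟩⟩

/-- the system of rings -/
def diag : FGSub R K ⥤ CommRingCat.{u} where
  obj A := CommRingCat.of A.1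
  map {_ _} f := CommRingCat.ofHom (Subalgebra.inclusion (leOfHom f)).toRingHom
  map_id _ := rfl
  map_comp _ _ := rfl

/-- the cocone to the whole ring -/
def cocone : Cocone (diag R K) where
  pt := CommRingCat.of K
  ι := { app := fun A => CommRingCat.ofHom A.1.val.toRingHom
         naturality := fun _ _ _ => rfl }

/-- it is a colimit -/
noncomputable def isColimit : IsColimit (cocone R K) := by
  haveI : ReflectsColimit (diag R K) (forget CommRingCat.{u}) := reflectsColimit_of_reflectsIsomorphisms _ _
  refine isColimitOfReflects (forget CommRingCat.{u}) ?_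
  refine Types.FilteredColimit.isColimitOf' _ _ ?_ ?_
  · intro (x : K)
    classical
    exact ⟨⟨Algebra.adjoin R {x}, ⟨{x}, by rw [Finset.coe_singleton]⟩⟩, ⟨x, Algebra.self_mem_adjoin_singleton R x⟩, rfl⟩
  · intro A x y h
    exact ⟨A, 𝟙 A, congrArg _ (Subtype.ext h)⟩

/-- spectra -/
noncomputable def specDiag : (FGSub R K)ᵒᵖ ⥤ Scheme.{u} := (diag R K).op ⋙ Scheme.Spec

/-- the cone -/
noncomputable def specCone : Cone (specDiag R K) := Scheme.Spec.mapCone (cocone R K).op

/-- it is a limit -/
noncomputable def isLimit : IsLimit (specCone R K) :=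
  isLimitOfPreserves Scheme.Spec (isColimit R K).op

instance (i : (FGSub R K)ᵒᵖ) : IsAffine ((specDiag R K).obj i) :=
  inferInstanceAs (IsAffine (Spec _))

instance (i j : (FGSub R K)ᵒᵖ) (f : i ⟶ j) : IsAffineHom ((specDiag R K).map f) := inferInstance

/-- the structure maps to `Spec R` -/
noncomputable def str (i : (FGSub R K)ᵒᵖ) : (specDiag R K).obj i ⟶ Spec (CommRingCat.of R) :=
  Spec.map (CommRingCat.ofHom (algebraMap R i.unop.1))

instance (i : (FGSub R K)ᵒᵖ) : LocallyOfFiniteType (str R K i) := by
  haveI : Algebra.FiniteType R i.unop.1 := (Subalgebra.fg_iff_finiteType _).1 i.unop.2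
  exact (HasRingHomProperty.Spec_iff (P := @LocallyOfFiniteType) (φ := CommRingCat.ofHom (algebraMap R i.unop.1))).2
    (RingHom.finiteType_algebraMap.2 inferInstance)

theorem map_str {i j : (FGSub R K)ᵒᵖ} (f : i ⟶ j) : (specDiag R K).map f ≫ str R K j = str R K i := by
  exact (Spec.map_comp (CommRingCat.ofHom (algebraMap R j.unop.1)) ((diag R K).map f.unop)).symm.trans rfl

theorem π_str (i : (FGSub R K)ᵒᵖ) :
    (specCone R K).π.app i ≫ str R K i = Spec.map (CommRingCat.ofHom (algebraMap R K)) := by
  exact (Spec.map_comp (CommRingCat.ofHom (algebraMap R i.unop.1)) ((cocone R K).ι.app i.unop)).symm.trans rfl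

end Groth.Agent.ConsPair.SubalgLimit
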