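import Groth.Prelude.Def_W4ega4s0809p4Pair
import Groth.Agent.ConsPair.SubalgLimit
import Groth.Agent.S4585
import Groth.Agent.S9218
import Mathlib.AlgebraicGeometry.Fiber
import Mathlib.AlgebraicGeometry.Noetherian
import Mathlib.AlgebraicGeometry.Morphisms.FinitePresentation

/-!
"Some extension of the base field admits a morphism with property `Q` between the base changes" is an
ind-constructible relation, as soon as `Q` is stable under base change and descends along limits.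
-/

set_option autoImplicit false
set_option backward.isDefEq.respectTransparency false
set_option backward.defeqAttrib.useBackward true

open CategoryTheory Limits AlgebraicGeometry Opposite

universe u

namespace Groth.Agent.ConsPair

/-- the relation attached to a property of morphisms -/
abbrev Rel (Q : ∀ {A B : Scheme.{u}}, (A ⟶ B) → Prop) ⦃X Y T : Scheme.{u}⦄ (gX : X ⟶ T) (gY : Y ⟶ T) : Prop :=
  ∃ (T' X' Y' : Scheme.{u}) (h : T' ⟶ T) (gX' : X' ⟶ T') (gY' : Y' ⟶ T')
    (eX : X' ⟶ X) (eY : Y' ⟶ Y), IsIntegral T' ∧ Subsingleton ↥T' ∧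
      IsPullback eX gX' gX h ∧ IsPullback eY gY' gY h ∧
        ∃ g : X' ⟶ Y', g ≫ gY' = gX' ∧ Q g

/-- descent along cofiltered limits with affine transition maps -/
def Descends (Q : MorphismProperty Scheme.{u}) : Prop :=
  ∀ {I : Type u} [SmallCategory I] [IsCofiltered I] (D : I ⥤ Scheme.{u}) (c : Cone D) (_ : IsLimit c)
    [∀ (i j : I) (f : i ⟶ j), IsAffineHom (D.map f)] (i₀ : I) [CompactSpace (D.obj i₀)]
    [QuasiSeparatedSpace (D.obj i₀)] {X₀ Y₀ : Scheme.{u}} (f₀ : X₀ ⟶ Y₀) (g₀ : Y₀ ⟶ D.obj i₀)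
    [LocallyOfFinitePresentation g₀] [QuasiCompact g₀] [QuasiSeparated g₀]
    [LocallyOfFinitePresentation (f₀ ≫ g₀)] [QuasiCompact (f₀ ≫ g₀)] [QuasiSeparated (f₀ ≫ g₀)]
    {X Y : Scheme.{u}} (f : X ⟶ Y) (g : Y ⟶ c.pt) (qY : Y ⟶ Y₀) (qX : X ⟶ X₀),
    IsPullback qY g g₀ (c.π.app i₀) → IsPullback qX f f₀ qY → Q f →
    ∃ (i : I) (φ : i ⟶ i₀) (Xi Yi : Scheme.{u}) (fi : Xi ⟶ Yi) (gi : Yi ⟶ D.obj i) (pY : Yi ⟶ Y₀)
      (pX : Xi ⟶ X₀), IsPullback pY gi g₀ (D.map φ) ∧ IsPullback pX fi f₀ pY ∧ Q fi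

variable (Q : MorphismProperty Scheme.{u})

theorem isFieldStable [Q.IsStableUnderBaseChange] :
    ConsPropPair.IsFieldStablePair (fun _ _ _ gX gY => Rel (fun f => Q f) gX gY) := by
  intro X X' Y Y' T T' gX gY gX' gY' eX eY h _ _ _ _ _ _ _ _ hX hY
  constructor
  · rintro ⟨T₂, X₂, Y₂, h₂, gX₂, gY₂, eX₂, eY₂, hi, hs, hX₂, hY₂, g, hg, hQ⟩
    obtain ⟨b⟩ : Nonempty T' := inferInstance
    haveI := hi
    obtain ⟨a⟩ : Nonempty T₂ := inferInstance
    obtain ⟨x, -, -⟩ := Scheme.Pullback.exists_preimage_pullback (f := h₂) (g := h) a b (Subsingleton.elim _ _)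
    set T₃ := Spec ((pullback h₂ h).residueField x)
    set a' : T₃ ⟶ T₂ := (pullback h₂ h).fromSpecResidueField x ≫ pullback.fst _ _ with ha'
    set b' : T₃ ⟶ T' := (pullback h₂ h).fromSpecResidueField x ≫ pullback.snd _ _ with hb'
    have w : a' ≫ h₂ = b' ≫ h := by simp [a', b', pullback.condition]
    have hX₃ : IsPullback (pullback.fst gX₂ a' ≫ eX₂) (pullback.snd gX₂ a') gX (b' ≫ h) := by
      rw [← w]; exact (IsPullback.of_hasPullback gX₂ a').paste_horiz hX₂
    have hY₃ : IsPullback (pullback.fst gY₂ a' ≫ eY₂) (pullback.snd gY₂ a') gY (b' ≫ h) := by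
      rw [← w]; exact (IsPullback.of_hasPullback gY₂ a').paste_horiz hY₂
    let eX₃ : pullback gX₂ a' ⟶ X' := hX.lift (pullback.fst gX₂ a' ≫ eX₂) (pullback.snd gX₂ a' ≫ b')
      (hX₃.w.trans (Category.assoc _ _ _).symm)
    let eY₃ : pullback gY₂ a' ⟶ Y' := hY.lift (pullback.fst gY₂ a' ≫ eY₂) (pullback.snd gY₂ a' ≫ b')
      (hY₃.w.trans (Category.assoc _ _ _).symm)
    let g₃ : pullback gX₂ a' ⟶ pullback gY₂ a' :=
      pullback.map gX₂ a' gY₂ a' g (𝟙 _) (𝟙 _) (by simp [hg]) (by simp)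
    refine ⟨T₃, pullback gX₂ a', pullback gY₂ a', b', pullback.snd _ _, pullback.snd _ _, eX₃, eY₃,
      inferInstance, inferInstanceAs (Subsingleton (PrimeSpectrum _)), ?_, ?_, g₃, ?_, ?_⟩
    · refine IsPullback.of_right ?_ (hX.lift_snd _ _ _) hX
      rw [hX.lift_fst]; exact hX₃
    · refine IsPullback.of_right ?_ (hY.lift_snd _ _ _) hY
      rw [hY.lift_fst]; exact hY₃
    · simp [g₃, pullback.map]
    · have sq : IsPullback (pullback.fst gX₂ a') g₃ g (pullback.fst gY₂ a') := by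
        refine IsPullback.of_bot ?_ (pullback.lift_fst _ _ _).symm (IsPullback.of_hasPullback gY₂ a')
        rw [hg, pullback.lift_snd, Category.comp_id]
        exact IsPullback.of_hasPullback gX₂ a'
      exact MorphismProperty.of_isPullback sq hQ
  · rintro ⟨T₂, X₂, Y₂, h₂, gX₂, gY₂, eX₂, eY₂, hi, hs, hX₂, hY₂, rest⟩
    exact ⟨T₂, X₂, Y₂, h₂ ≫ h, gX₂, gY₂, eX₂ ≫ eX, eY₂ ≫ eY, hi, hs,
      hX₂.paste_horiz hX, hY₂.paste_horiz hY, rest⟩

variable {Q}

theorem isIndConsPair [Q.IsStableUnderBaseChange] (hd : Descends Q) :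
    ConsPropPair.IsIndConsPair (fun _ _ _ gX gY => Rel (fun f => Q f) gX gY) := by
  refine ⟨isFieldStable Q, fun X Y S u v _ _ _ _ _ _ hη => ?_⟩
  obtain ⟨T', X', Y', h, gX', gY', eX, eY, hi, hs, hX', hY', g, hg, hQg⟩ := hη
  haveI := hi; haveI := hs
  letI := (isField_of_isIntegral_of_subsingleton T').toField
  let b : Spec Γ(T', ⊤) ⟶ S := T'.isoSpec.inv ≫ h ≫ S.fromSpecResidueField (genericPoint S)
  have hb : ∀ p, b p = genericPoint S := fun p => by
    simp only [b, Scheme.Hom.comp_apply]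
    exact Scheme.fromSpecResidueField_apply _ _
  obtain ⟨_, ⟨U, hU, rfl⟩, hηU, -⟩ :=
    S.isBasis_affineOpens.exists_subset_of_mem_open (Set.mem_univ (genericPoint S)) isOpen_univ
  haveI := hU.isOpenImmersion_fromSpec
  let b' : Spec Γ(T', ⊤) ⟶ Spec Γ(S, U) := IsOpenImmersion.lift hU.fromSpec b (by
    rintro _ ⟨p, rfl⟩
    rw [hb, hU.range_fromSpec]
    exact hηU)
  letI : Algebra Γ(S, U) Γ(T', ⊤) := (Spec.preimage b').hom.toAlgebra
  have hbb : Spec.map (CommRingCat.ofHom (algebraMap Γ(S, U) Γ(T', ⊤))) ≫ hU.fromSpec = b := by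
    change Spec.map (Spec.preimage b') ≫ _ = _
    rw [Spec.map_preimage, IsOpenImmersion.lift_fac]
  let D := SubalgLimit.specDiag Γ(S, U) Γ(T', ⊤)
  let c := SubalgLimit.specCone Γ(S, U) Γ(T', ⊤)
  let a := fun i => SubalgLimit.str Γ(S, U) Γ(T', ⊤) i ≫ hU.fromSpec
  have hca : ∀ i, c.π.app i ≫ a i = b := fun i => by
    simp only [a, c, ← Category.assoc]
    rw [SubalgLimit.π_str, hbb]
  obtain ⟨i₀⟩ : Nonempty (SubalgLimit.FGSub Γ(S, U) Γ(T', ⊤))ᵒᵖ := ⟨op ⟨⊥, Subalgebra.fg_bot⟩⟩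
  haveI : IsLocallyNoetherian X := LocallyOfFiniteType.isLocallyNoetherian u
  haveI : IsLocallyNoetherian Y := LocallyOfFiniteType.isLocallyNoetherian v
  haveI hcX : CompactSpace X := QuasiCompact.compactSpace_of_compactSpace u
  haveI hcY : CompactSpace Y := QuasiCompact.compactSpace_of_compactSpace v
  haveI : QuasiSeparated u := QuasiSeparated.of_quasiSeparatedSpace u
  haveI : QuasiSeparated v := QuasiSeparated.of_quasiSeparatedSpace v
  -- the base changes over the limit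
  have hXb : IsPullback (eX ≫ pullback.fst _ _) (gX' ≫ T'.isoSpec.hom) u b :=
    (hX'.paste_horiz (IsPullback.of_hasPullback u (S.fromSpecResidueField (genericPoint S)))).of_iso
      (Iso.refl _) (Iso.refl _) T'.isoSpec (Iso.refl _) (by simp) (by simp) (by simp) (by simp [b])
  have hYb : IsPullback (eY ≫ pullback.fst _ _) (gY' ≫ T'.isoSpec.hom) v b :=
    (hY'.paste_horiz (IsPullback.of_hasPullback v (S.fromSpecResidueField (genericPoint S)))).of_iso
      (Iso.refl _) (Iso.refl _) T'.isoSpec (Iso.refl _) (by simp) (by simp) (by simp) (by simp [b])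
  let qX : X' ⟶ pullback u (a i₀) := pullback.lift (eX ≫ pullback.fst _ _) ((gX' ≫ T'.isoSpec.hom) ≫ c.π.app i₀)
    (by refine hXb.w.trans ?_; rw [Category.assoc _ (c.π.app i₀) (a i₀), hca])
  let qY : Y' ⟶ pullback v (a i₀) := pullback.lift (eY ≫ pullback.fst _ _) ((gY' ≫ T'.isoSpec.hom) ≫ c.π.app i₀)
    (by refine hYb.w.trans ?_; rw [Category.assoc _ (c.π.app i₀) (a i₀), hca])
  have hX₀ : IsPullback qX (gX' ≫ T'.isoSpec.hom) (pullback.snd u (a i₀)) (c.π.app i₀) := by
    refine IsPullback.of_right ?_ (pullback.lift_snd _ _ _) (IsPullback.of_hasPullback u (a i₀))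
    rw [pullback.lift_fst, hca]; exact hXb
  have hY₀ : IsPullback qY (gY' ≫ T'.isoSpec.hom) (pullback.snd v (a i₀)) (c.π.app i₀) := by
    refine IsPullback.of_right ?_ (pullback.lift_snd _ _ _) (IsPullback.of_hasPullback v (a i₀))
    rw [pullback.lift_fst, hca]; exact hYb
  haveI : CompactSpace ↥(pullback u (a i₀)) := QuasiCompact.compactSpace_of_compactSpace (pullback.snd u (a i₀))
  haveI : QuasiSeparatedSpace ↥(pullback u (a i₀)) := quasiSeparatedSpace_of_quasiSeparated (pullback.snd u (a i₀))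
  haveI : CompactSpace ↥(pullback v (a i₀)) := QuasiCompact.compactSpace_of_compactSpace (pullback.snd v (a i₀))
  haveI : QuasiSeparatedSpace ↥(pullback v (a i₀)) := quasiSeparatedSpace_of_quasiSeparated (pullback.snd v (a i₀))
  obtain ⟨j, φ, fj, sX, sY, e₁, e₂, e₃, e₄, e₅, e₆⟩ := Groth.Agent.S9218.result D c
    (SubalgLimit.isLimit _ _) i₀ (pullback.snd u (a i₀)) (pullback.snd v (a i₀)) qX _ hX₀ qY _ hY₀ g
    (by rw [← Category.assoc, hg])
  have hsX : IsPullback sX (gX' ≫ T'.isoSpec.hom) (pullback.snd (pullback.snd u (a i₀)) (D.map φ)) (c.π.app j) := by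
    refine IsPullback.of_right ?_ e₃ (IsPullback.of_hasPullback _ (D.map φ))
    rw [e₂, c.w]; exact hX₀
  have hsY : IsPullback sY (gY' ≫ T'.isoSpec.hom) (pullback.snd (pullback.snd v (a i₀)) (D.map φ)) (c.π.app j) := by
    refine IsPullback.of_right ?_ e₅ (IsPullback.of_hasPullback _ (D.map φ))
    rw [e₄, c.w]; exact hY₀
  have hsq : IsPullback sX g fj sY := by
    refine IsPullback.of_bot ?_ e₆ hsY
    rw [e₁, ← Category.assoc, hg]
    exact hsX
  haveI : LocallyOfFinitePresentation (fj ≫ pullback.snd (pullback.snd v (a i₀)) (D.map φ)) := by rw [e₁]; infer_instance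
  haveI : QuasiCompact (fj ≫ pullback.snd (pullback.snd v (a i₀)) (D.map φ)) := by rw [e₁]; infer_instance
  haveI : QuasiSeparated (fj ≫ pullback.snd (pullback.snd v (a i₀)) (D.map φ)) := by rw [e₁]; infer_instance
  obtain ⟨k, ψ, Xk, Yk, fk, gk, pY, pX, hpY, hpX, hQ⟩ := hd D c (SubalgLimit.isLimit _ _) j fj
    (pullback.snd (pullback.snd v (a i₀)) (D.map φ)) g (gY' ≫ T'.isoSpec.hom) sY sX hsY hsq hQg
  -- the image of the stage
  have hak : ∀ {i i' : (SubalgLimit.FGSub Γ(S, U) Γ(T', ⊤))ᵒᵖ} (f : i ⟶ i'), D.map f ≫ a i' = a i := fun f => by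
    simp only [a, D, ← Category.assoc, SubalgLimit.map_str]
  haveI : LocallyOfFiniteType (a k) := inferInstanceAs (LocallyOfFiniteType (SubalgLimit.str _ _ k ≫ _))
  obtain ⟨p₀⟩ : Nonempty (Spec Γ(T', ⊤)) := inferInstanceAs (Nonempty (PrimeSpectrum _))
  have hr : genericPoint S ∈ Set.range (a k).base :=
    ⟨c.π.app k p₀, by rw [← Scheme.Hom.comp_apply, hca]; exact hb _⟩
  refine ⟨genericPoint S, interior_mono ?_ (Groth.Agent.S4585.result (a k) hr)⟩
  rintro _ ⟨p, rfl⟩
  -- the pair of fibres over a point of the stage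
  have hYS : IsPullback (pY ≫ pullback.fst _ _ ≫ pullback.fst _ _) gk v (a k) := by
    have := hpY.paste_horiz ((IsPullback.of_hasPullback (pullback.snd v (a i₀)) (D.map φ)).paste_horiz
      (IsPullback.of_hasPullback v (a i₀)))
    rwa [hak, hak] at this
  have hXS : IsPullback (pX ≫ pullback.fst _ _ ≫ pullback.fst _ _) (fk ≫ gk) u (a k) := by
    have h1 := hpX.paste_vert hpY
    rw [e₁] at h1
    have := h1.paste_horiz ((IsPullback.of_hasPullback (pullback.snd u (a i₀)) (D.map φ)).paste_horiz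
      (IsPullback.of_hasPullback u (a i₀)))
    rwa [hak, hak] at this
  set r := (D.obj k).fromSpecResidueField p
  have hsp : Spec.map ((a k).residueFieldMap p) ≫ S.fromSpecResidueField (a k p) = r ≫ a k :=
    Scheme.Hom.SpecMap_residueFieldMap_fromSpecResidueField _ _
  have hXp : IsPullback (pullback.fst (fk ≫ gk) r ≫ pX ≫ pullback.fst _ _ ≫ pullback.fst _ _)
      (pullback.snd (fk ≫ gk) r) u (Spec.map ((a k).residueFieldMap p) ≫ S.fromSpecResidueField (a k p)) := by
    rw [hsp]; exact (IsPullback.of_hasPullback (fk ≫ gk) r).paste_horiz hXS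
  have hYp : IsPullback (pullback.fst gk r ≫ pY ≫ pullback.fst _ _ ≫ pullback.fst _ _)
      (pullback.snd gk r) v (Spec.map ((a k).residueFieldMap p) ≫ S.fromSpecResidueField (a k p)) := by
    rw [hsp]; exact (IsPullback.of_hasPullback gk r).paste_horiz hYS
  let ιX : pullback (fk ≫ gk) r ⟶ u.fiber (a k p) := pullback.lift _ _ (hXp.w.trans (Category.assoc _ _ _).symm)
  let ιY : pullback gk r ⟶ v.fiber (a k p) := pullback.lift _ _ (hYp.w.trans (Category.assoc _ _ _).symm)
  let gp : pullback (fk ≫ gk) r ⟶ pullback gk r :=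
    pullback.map (fk ≫ gk) r gk r fk (𝟙 _) (𝟙 _) (by simp) (by simp)
  refine ⟨Spec ((D.obj k).residueField p), _, _, Spec.map ((a k).residueFieldMap p), pullback.snd (fk ≫ gk) r,
    pullback.snd gk r, ιX, ιY, inferInstance, inferInstanceAs (Subsingleton (PrimeSpectrum _)),
    ?_, ?_, gp, by simp [gp, pullback.map], ?_⟩
  · refine IsPullback.of_right (t := IsPullback.of_hasPullback u (S.fromSpecResidueField (a k p))) ?_ (pullback.lift_snd _ _ _)
    rw [pullback.lift_fst]; exact hXp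
  · refine IsPullback.of_right (t := IsPullback.of_hasPullback v (S.fromSpecResidueField (a k p))) ?_ (pullback.lift_snd _ _ _)
    rw [pullback.lift_fst]; exact hYp
  · have sq : IsPullback (pullback.fst (fk ≫ gk) r) gp fk (pullback.fst gk r) := by
      refine IsPullback.of_bot ?_ (pullback.lift_fst _ _ _).symm (IsPullback.of_hasPullback gk r)
      rw [pullback.lift_snd, Category.comp_id]
      exact IsPullback.of_hasPullback _ r
    exact MorphismProperty.of_isPullback sq hQ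

end Groth.Agent.ConsPair
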