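import Groth.Agent.Lead.Lim.QuasiAffine
import Groth.Prelude.Def_MoreMor

/-!
Quasi-affine morphisms are stable under base change.
-/

set_option autoImplicit false
set_option backward.isDefEq.respectTransparency false
set_option backward.defeqAttrib.useBackward true

open CategoryTheory Limits AlgebraicGeometry TopologicalSpace

universe u

namespace Groth.Agent.ConsPair

/-- quasi-affine morphisms, as a morphism property -/
def quasiAffine : MorphismProperty Scheme.{u} := fun _ _ f => MoreMor.IsQuasiAffineHom f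

theorem isSeparated_of_quasiAffine {X Y : Scheme.{u}} (f : X ⟶ Y) (hf : MoreMor.IsQuasiAffineHom f) :
    IsSeparated f := by
  refine (IsZariskiLocalAtTarget.iff_of_iSup_eq_top (P := @IsSeparated) (fun V : Y.affineOpens => V.1)
    (iSup_affineOpens_eq_top Y)).2 fun V => ?_
  haveI : Scheme.IsQuasiAffine (f ⁻¹ᵁ V.1 : Scheme.{u}) := hf.2 _ V.2
  infer_instance

instance quasiAffine_isStableUnderBaseChange : (quasiAffine.{u}).IsStableUnderBaseChange := by
  constructor
  intro X Y Y' S g f q p sq₀ hf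
  haveI := isSeparated_of_quasiAffine f hf
  haveI : QuasiCompact f := hf.1
  haveI : IsSeparated p := MorphismProperty.of_isPullback (P := @IsSeparated) sq₀ inferInstance
  haveI : QuasiCompact p := MorphismProperty.of_isPullback (P := @QuasiCompact) sq₀ inferInstance
  let J := {W : X.Opens // IsAffineOpen W ∧ ∃ V : S.Opens, IsAffineOpen V ∧ W ≤ g ⁻¹ᵁ V}
  refine Groth.Agent.Lead.Lim.isQuasiAffine_of_cover p (fun W : J => W.1) ?_ ?_
  · refine eq_top_iff.2 fun x _ => ?_
    obtain ⟨_, ⟨V, hV, rfl⟩, hxV, -⟩ := S.isBasis_affineOpens.exists_subset_of_mem_open (Set.mem_univ (g x)) isOpen_univ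
    obtain ⟨_, ⟨W, hW, rfl⟩, hxW, hWV⟩ := X.isBasis_affineOpens.exists_subset_of_mem_open
      (show x ∈ ((g ⁻¹ᵁ V : X.Opens) : Set X) from hxV) (g ⁻¹ᵁ V).2
    exact Opens.mem_iSup.2 ⟨⟨W, hW, V, hV, hWV⟩, hxW⟩
  · rintro ⟨W, hW, V, hV, hWV⟩
    haveI : IsAffine W := hW
    haveI : IsAffine V := hV
    haveI : Scheme.IsQuasiAffine (f ⁻¹ᵁ V : Scheme.{u}) := hf.2 V hV
    have sq : IsPullback (p ∣_ W) ((p ⁻¹ᵁ W).ι ≫ q) (W.ι ≫ g) f :=
      (isPullback_morphismRestrict p W).paste_vert sq₀.flip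
    rw [← g.resLE_comp_ι hWV] at sq
    let t := sq.flip
    have hr := (isPullback_morphismRestrict f V).flip
    let k : (p ⁻¹ᵁ W : Scheme.{u}) ⟶ (f ⁻¹ᵁ V : Scheme.{u}) :=
      hr.lift ((p ⁻¹ᵁ W).ι ≫ q) ((p ∣_ W) ≫ g.resLE V W hWV)
        (t.w.trans (Category.assoc _ _ _).symm)
    have hk : IsPullback k (p ∣_ W) (f ∣_ V) (g.resLE V W hWV) := by
      refine IsPullback.of_right ?_ (hr.lift_snd _ _ _) hr
      rw [hr.lift_fst]
      exact t
    haveI : IsAffineHom k := MorphismProperty.of_isPullback (P := @IsAffineHom) hk.flip inferInstance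
    exact Scheme.IsQuasiAffine.of_isAffineHom k

end Groth.Agent.ConsPair
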